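import Mathlib
import Cfsg.Agent.BlocksCharsC.RegularSupport
import Cfsg.Agent.PrincipalBlock.Kernel
import Cfsg.Agent.Characters.Burnside

/-!
An element of prime order `r` whose class has `p`-power size centralises every minimal normal subgroup
without normal `p`-subgroups which, with it, generates the group (the step behind Kazarin's theorem).
-/

namespace CfsgLib.PrimePowerClass

open Subgroup CfsgLib.Blocks Cfsg
open scoped ComplexConjugate

universe u

variable {G : Type u} [Group G] [Finite G]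

theorem relIndex_sup_eq (D N : Subgroup G) [N.Normal] : D.relIndex (D ⊔ N) = D.relIndex N := by
  have e1 : D.relIndex (D ⊔ N) * Nat.card D = Nat.card (D ⊔ N : Subgroup G) := by
    have h := Subgroup.relIndex_mul_relIndex ⊥ D (D ⊔ N) bot_le le_sup_left
    rw [relIndex_bot_left, relIndex_bot_left, mul_comm] at h
    exact h
  have e2 : N.relIndex D * Nat.card N = Nat.card (D ⊔ N : Subgroup G) := by
    have h := Subgroup.relIndex_mul_relIndex ⊥ N (D ⊔ N) bot_le le_sup_right
    rw [relIndex_bot_left, relIndex_bot_left, relIndex_sup_right, mul_comm] at h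
    exact h
  have e3 : Nat.card (D ⊓ N : Subgroup G) * N.relIndex D = Nat.card D := by
    have h := Subgroup.relIndex_mul_relIndex ⊥ (D ⊓ N) D bot_le inf_le_left
    rwa [relIndex_bot_left, relIndex_bot_left, inf_relIndex_left] at h
  have e4 : Nat.card (D ⊓ N : Subgroup G) * D.relIndex N = Nat.card N := by
    have h := Subgroup.relIndex_mul_relIndex ⊥ (D ⊓ N) N bot_le inf_le_right
    rwa [relIndex_bot_left, relIndex_bot_left, inf_relIndex_right] at h
  refine Nat.eq_of_mul_eq_mul_right (Nat.card_pos (α := D)) ?_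
  calc D.relIndex (D ⊔ N) * Nat.card D = N.relIndex D * Nat.card N := e1.trans e2.symm
    _ = D.relIndex N * (Nat.card (D ⊓ N : Subgroup G) * N.relIndex D) := by rw [← e4]; ring
    _ = D.relIndex N * Nat.card D := by rw [e3]

theorem relIndex_dvd_index (D N : Subgroup G) [N.Normal] : D.relIndex N ∣ D.index := by
  rw [← relIndex_sup_eq]
  exact ⟨_, (relIndex_mul_index le_sup_left).symm⟩

/-- The situation in which the contradiction is derived. -/
structure Setup (N : Subgroup G) (x : G) (p a : ℕ) : Prop where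
  prime : (orderOf x).Prime
  gen : N ⊔ zpowers x = ⊤
  minimal : ∀ K : Subgroup G, K.Normal → K ≤ N → K = ⊥ ∨ K = N
  noP : ∀ J : Subgroup G, J ≤ N → N ≤ normalizer (J : Set G) → IsPGroup p J → J = ⊥
  index : (centralizer ({x} : Set G)).index = p ^ a
  moves : ∃ n ∈ N, n * x ≠ x * n

variable {N : Subgroup G} [N.Normal] {x : G} {p a : ℕ} [Fact p.Prime]

/-- `x` fixes no Sylow `p`-subgroup of `N`. -/
theorem Setup.not_normalizes (h : Setup N x p a) (P : Subgroup G) (hPN : P ≤ N) (hP : IsPGroup p P)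
    (hsyl : ¬ p ∣ P.relIndex N) : ¬ ∀ q ∈ P, x * q * x⁻¹ ∈ P := by
  classical
  intro hx
  set C := centralizer ({x} : Set G) with hC
  have hCN : C ⊔ N = ⊤ := by
    rw [eq_top_iff, ← h.gen]
    refine sup_le le_sup_right (zpowers_le.mpr ((le_sup_left : C ≤ C ⊔ N) ?_))
    exact mem_centralizer_singleton_iff.mpr rfl
  have hidxN : C.relIndex N = p ^ a := by
    rw [← relIndex_sup_eq, hCN, relIndex_top_right]; exact h.index
  -- `P` is transitive on the cosets of `C`
  have hdvd : p ^ a ∣ C.relIndex P := by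
    have h1 : Nat.card (C ⊓ P : Subgroup G) * C.relIndex P = Nat.card P := by
      have h' := Subgroup.relIndex_mul_relIndex ⊥ (C ⊓ P) P bot_le inf_le_right
      rwa [relIndex_bot_left, relIndex_bot_left, inf_relIndex_right] at h'
    have h2 : Nat.card (C ⊓ N : Subgroup G) * p ^ a = Nat.card N := by
      have h' := Subgroup.relIndex_mul_relIndex ⊥ (C ⊓ N) N bot_le inf_le_right
      rwa [relIndex_bot_left, relIndex_bot_left, inf_relIndex_right, hidxN] at h'
    have h3 : Nat.card P * P.relIndex N = Nat.card N := by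
      have h' := Subgroup.relIndex_mul_relIndex ⊥ P N bot_le hPN
      rwa [relIndex_bot_left, relIndex_bot_left] at h'
    obtain ⟨c, hc⟩ := card_dvd_of_le (show C ⊓ P ≤ C ⊓ N from inf_le_inf_left _ hPN)
    have h4 : c * p ^ a = C.relIndex P * P.relIndex N := by
      refine Nat.eq_of_mul_eq_mul_left (Nat.card_pos (α := (C ⊓ P : Subgroup G))) ?_
      rw [← mul_assoc, ← hc, h2, ← mul_assoc, h1, h3]
    exact (Nat.Coprime.pow_left a ((Fact.out : p.Prime).coprime_iff_not_dvd.mpr hsyl)).dvd_of_dvd_mul_right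
      ⟨c, by rw [← h4, mul_comm]⟩
  have horb : MulAction.orbit P ((1 : G) : G ⧸ C) = Set.univ := by
    refine Set.eq_of_subset_of_ncard_le (Set.subset_univ _) ?_ (Set.toFinite _)
    rw [Set.ncard_univ, ← MulAction.index_stabilizer]
    have e : MulAction.stabilizer P ((1 : G) : G ⧸ C) = C.subgroupOf P := by
      ext q
      rw [MulAction.mem_stabilizer_iff, Subgroup.mem_subgroupOf]
      show ((((q : P) : G) * 1 : G) : G ⧸ C) = ((1 : G) : G ⧸ C) ↔ _
      rw [mul_one, eq_comm, QuotientGroup.eq, inv_one, one_mul]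
    rw [e, ← index_eq_card, h.index]
    exact Nat.le_of_dvd (Nat.pos_of_ne_zero index_ne_zero_of_finite) hdvd
  have hconj : ∀ g : G, ∃ q ∈ P, g * x * g⁻¹ = q * x * q⁻¹ := by
    intro g
    have hg : ((g : G) : G ⧸ C) ∈ MulAction.orbit P ((1 : G) : G ⧸ C) := horb ▸ Set.mem_univ _
    obtain ⟨q, hq⟩ := hg
    have hq' : (((q : G) * 1 : G) : G ⧸ C) = ((g : G) : G ⧸ C) := hq
    rw [mul_one, QuotientGroup.eq, hC, mem_centralizer_singleton_iff] at hq'
    refine ⟨q, q.2, ?_⟩
    calc g * x * g⁻¹ = (q : G) * ((q : G)⁻¹ * g * x) * g⁻¹ := by group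
      _ = (q : G) * (x * ((q : G)⁻¹ * g)) * g⁻¹ := by rw [hq']
      _ = (q : G) * x * (q : G)⁻¹ := by group
  have hcomm : ∀ g : G, g * x * g⁻¹ * x⁻¹ ∈ P := by
    intro g
    obtain ⟨q, hq, e⟩ := hconj g
    rw [e, show q * x * q⁻¹ * x⁻¹ = q * (x * q⁻¹ * x⁻¹) by group]
    exact mul_mem hq (hx _ (inv_mem hq))
  set J := closure {c : G | ∃ n ∈ N, c = n * x * n⁻¹ * x⁻¹} with hJ
  have hJP : J ≤ P := by
    rw [hJ, closure_le]; rintro _ ⟨n, -, rfl⟩; exact hcomm n
  have hJn : N ≤ normalizer (J : Set G) := by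
    have key : ∀ m ∈ N, ∀ c ∈ J, m * c * m⁻¹ ∈ J := by
      intro m hm c hc
      have : J.map (MulAut.conj m).toMonoidHom ≤ J := by
        rw [hJ, MonoidHom.map_closure, closure_le]
        rintro _ ⟨_, ⟨n, hn, rfl⟩, rfl⟩
        have e : (MulAut.conj m).toMonoidHom (n * x * n⁻¹ * x⁻¹)
            = (m * n) * x * (m * n)⁻¹ * x⁻¹ * (m * x * m⁻¹ * x⁻¹)⁻¹ := by
          simp only [MulEquiv.coe_toMonoidHom, MulAut.conj_apply]; group
        rw [SetLike.mem_coe, e]
        exact mul_mem (subset_closure ⟨m * n, mul_mem hm hn, rfl⟩) (inv_mem (subset_closure ⟨m, hm, rfl⟩))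
      exact this ⟨c, hc, rfl⟩
    intro m hm
    rw [mem_normalizer_iff]
    refine fun c => ⟨key m hm c, fun hc => ?_⟩
    have := key m⁻¹ (inv_mem hm) _ hc
    simpa [mul_assoc] using this
  have hJb := h.noP J (hJP.trans hPN) hJn (hP.to_le hJP)
  obtain ⟨n, hn, hne⟩ := h.moves
  have h1 : n * x * n⁻¹ * x⁻¹ = 1 := mem_bot.mp (hJb ▸ (subset_closure ⟨n, hn, rfl⟩ : n * x * n⁻¹ * x⁻¹ ∈ J))
  rw [mul_inv_eq_one, mul_inv_eq_iff_eq_mul] at h1
  exact hne h1

/-- Hence `orderOf x` divides the number of Sylow `p`-subgroups of `N`. -/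
theorem Setup.dvd_card_sylow (h : Setup N x p a) :
    orderOf x ∣ Nat.card (Sylow p N) := by
  classical
  have hr := h.prime
  have : Fact (orderOf x).Prime := ⟨hr⟩
  by_contra hnd
  let _ : MulAction (zpowers x) (Sylow p N) :=
    MulAction.compHom (Sylow p N) ((MulAut.conjNormal (H := N)).comp (zpowers x).subtype)
  have hpg : IsPGroup (orderOf x) (zpowers x) := IsPGroup.of_card (n := 1) (by rw [Nat.card_zpowers, pow_one])
  obtain ⟨P, hP⟩ := hpg.nonempty_fixed_point_of_prime_not_dvd_card _ hnd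
  refine h.not_normalizes ((P : Subgroup N).map N.subtype) (map_subtype_le _) (P.2.map _) ?_ ?_
  · rw [show ((P : Subgroup N).map N.subtype).relIndex N = (P : Subgroup N).index by
      rw [relIndex, subgroupOf, comap_map_eq_self_of_injective (subtype_injective N)]]
    exact P.not_dvd_index
  · rintro _ ⟨q, hq, rfl⟩
    have e := hP ⟨x, mem_zpowers x⟩
    refine ⟨MulAut.conjNormal x q, ?_, MulAut.conjNormal_apply x q⟩
    have e' : (MulAut.conjNormal x : MulAut N) • P = P := e
    rw [← e', Sylow.pointwise_smul_def]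
    exact smul_mem_pointwise_smul _ _ _ hq

/-- The block-theoretic step. -/
theorem Setup.contradiction (h : Setup N x p a) : False := by
  classical
  have := Fintype.ofFinite G
  have hp : p.Prime := Fact.out
  set r := orderOf x with hr_def
  have hr : r.Prime := h.prime
  have : Fact r.Prime := ⟨hr⟩
  have hdvd := h.dvd_card_sylow
  have hrp : r ≠ p := fun e => by
    have h1 : Nat.card (Sylow p N) ≡ 1 [MOD p] := card_sylow_modEq_one p N
    have h2 : (p : ℕ) ∣ Nat.card (Sylow p N) := e ▸ hdvd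
    exact hp.not_dvd_one ((Nat.ModEq.dvd_iff h1 dvd_rfl).mp h2)
  have hrN : r ∣ Nat.card N :=
    hdvd.trans (((default : Sylow p N).card_dvd_index).trans (index_dvd_card _))
  obtain ⟨⟨s, hsN⟩, hso⟩ := exists_prime_orderOf_dvd_card' r hrN
  rw [Subgroup.orderOf_mk] at hso
  obtain ⟨M, hM⟩ := exists_isPModular r hr
  have := IsPModular.isPrime hM
  set B := Cfsg.principalBlock M G with hB
  -- the index of `N`
  have hidx : N.index ∣ r := by
    have htop : zpowers (QuotientGroup.mk' N x) = ⊤ := by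
      rw [← MonoidHom.map_zpowers, ← Subgroup.map_top_of_surjective _ (QuotientGroup.mk'_surjective N), ← h.gen,
        Subgroup.map_sup, (Subgroup.map_eq_bot_iff _).mpr (QuotientGroup.ker_mk' N).ge, bot_sup_eq]
    rw [index_eq_card, ← Nat.card_congr (topEquiv (G := G ⧸ N)).toEquiv, ← htop, Nat.card_zpowers]
    exact orderOf_map_dvd _ _
  -- a character with scalar value at `x` is either trivial on `N` or contradicts `moves`
  have hker : ∀ {n : ℕ} (ρ : Representation ℂ G (Fin n → ℂ)) (ω : ℂ), ρ x = ω • LinearMap.id →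
      ∀ m ∈ N, ρ m = 1 := by
    intro n ρ ω hω m hm
    have hc : ∀ g : G, ρ (g * x * g⁻¹ * x⁻¹) = 1 := by
      intro g
      rw [map_mul, map_mul, map_mul, hω, mul_assoc (ρ g), mul_assoc (ρ g)]
      have : (ω • LinearMap.id) * ρ g⁻¹ * ρ x⁻¹ = ρ g⁻¹ * ((ω • LinearMap.id) * ρ x⁻¹) := by
        ext v i; simp [map_smul]
      rw [this, ← hω, ← map_mul ρ x, mul_inv_cancel, map_one, mul_one, ← map_mul, mul_inv_cancel, map_one]
    rcases h.minimal (N ⊓ MonoidHom.ker ρ) inferInstance inf_le_left with e | e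
    · obtain ⟨n', hn', hne⟩ := h.moves
      have hmem : n' * x * n'⁻¹ * x⁻¹ ∈ N ⊓ MonoidHom.ker ρ := by
        refine Subgroup.mem_inf.mpr ⟨?_, MonoidHom.mem_ker.mpr (hc n')⟩
        rw [show n' * x * n'⁻¹ * x⁻¹ = n' * (x * n'⁻¹ * x⁻¹) by group]
        exact mul_mem hn' (Normal.conj_mem ‹_› _ (inv_mem hn') x)
      rw [e, mem_bot, mul_inv_eq_one, mul_inv_eq_iff_eq_mul] at hmem
      exact absurd hmem hne
    · exact MonoidHom.mem_ker.mp (Subgroup.mem_inf.mp (e.ge hm)).2
  -- characters trivial on `N` are in the principal block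
  have hAB : ∀ χ : IrrCharacter G, N ≤ PrincipalBlock.charKer χ → χ ∈ B := by
    intro χ hχ
    obtain ⟨n, ρ, hρ, hρc⟩ := χ.2
    have hone : ∀ m ∈ N, ρ m = 1 := fun m hm => PrincipalBlock.rep_eq_one_of_char_eq ρ (by
      rw [hρc]; exact PrincipalBlock.mem_charKer.mp (hχ hm))
    have hgen : ∀ g : G, ∃ m ∈ N, ∃ j : ℕ, g = m * x ^ j := by
      intro g
      have hg : g ∈ ((N ⊔ zpowers x : Subgroup G) : Set G) := by rw [h.gen]; trivial
      rw [Subgroup.normal_mul] at hg
      obtain ⟨m, hm, y, hy, e⟩ := Set.mem_mul.mp hg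
      obtain ⟨j, rfl⟩ := mem_powers_iff_mem_zpowers.mpr hy
      exact ⟨m, hm, j, e.symm⟩
    have := hρ
    obtain ⟨ω, hω⟩ := Characters.schur_scalar ρ (ρ x) fun g v => by
      obtain ⟨m, hm, j, rfl⟩ := hgen g
      rw [map_mul, map_pow, hone m hm, one_mul]
      exact DFunLike.congr_fun (Commute.self_pow (ρ x) j).eq v
    have hn0 : 0 < n := by simpa using Characters.finrank_pos_of_isIrreducible ρ
    have hpowx : ∀ j : ℕ, ρ (x ^ j) = (ω ^ j) • LinearMap.id := by
      intro j
      induction j with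
      | zero => simp [Module.End.one_eq_id]
      | succ j ih => rw [pow_succ, map_mul, ih, hω, pow_succ]; ext v i; simp [mul_assoc, mul_left_comm]
    have hωr : ω ^ r = 1 := by
      have h1 := hpowx r
      rw [hr_def, pow_orderOf_eq_one, map_one] at h1
      have h2 := congrArg (LinearMap.trace ℂ (Fin n → ℂ)) h1
      simp only [map_smul, Module.End.one_eq_id, LinearMap.trace_id, Module.finrank_fin_fun, smul_eq_mul] at h2
      exact mul_right_cancel₀ (Nat.cast_ne_zero.mpr hn0.ne' : (n : ℂ) ≠ 0) (h2.symm.trans (one_mul _).symm)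
    rw [hB, BlocksCharsC.mem_principalBlock_iff]
    intro g
    obtain ⟨m, hm, j, rfl⟩ := hgen g
    set c := ((centralizer ({m * x ^ j} : Set G)).index : ℂ) with hc
    have hval : Cfsg.centralChar (χ : G → ℂ) (m * x ^ j) - c = c * (ω ^ j - 1) := by
      rw [Cfsg.centralChar, ← hρc, Representation.char_one, Representation.character, map_mul, hone m hm, one_mul,
        hpowx, map_smul, LinearMap.trace_id, Module.finrank_fin_fun, ← hc, smul_eq_mul]
      have hnC : (n : ℂ) ≠ 0 := Nat.cast_ne_zero.mpr hn0.ne'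
      field_simp
    rw [hval]
    have hωint : IsIntegral ℤ (ω ^ j) := by
      refine IsIntegral.pow ?_ j
      exact IsIntegral.of_pow hr.pos (by rw [hωr]; exact isIntegral_one)
    let z : localRing M := ⟨ω ^ j, memLocalRing_of_isIntegral hωint⟩
    have hz : red M z = 1 := red_eq_one_of_pow_eq_one hM (k := 1) (Subtype.ext (by
      simp only [z, SubmonoidClass.coe_pow, pow_one, OneMemClass.coe_one]
      rw [← pow_mul, mul_comm, pow_mul, hωr, one_pow]))
    have hz1 : Cfsg.MemLocalIdeal M (ω ^ j - 1) := by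
      have := (red_eq_red_iff (x := z) (y := 1)).mp (by rw [hz, map_one])
      simpa [z] using this
    rw [mul_comm]
    exact memLocalIdeal_mul_right hz1 (memLocalRing_natCast _)
  -- the other members of the principal block have degree divisible by `p`
  have hrest : ∀ χ : IrrCharacter G, χ ∈ B → ¬ N ≤ PrincipalBlock.charKer χ →
      ∃ d : ℕ, (χ : G → ℂ) 1 = ((p * d : ℕ) : ℂ) := by
    intro χ hχ hN
    obtain ⟨n, ρ, hρ, hρc⟩ := χ.2
    have h1 : (χ : G → ℂ) 1 = (n : ℂ) := by rw [← hρc, Representation.char_one]; simp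
    by_cases hpn : p ∣ n
    · obtain ⟨d, rfl⟩ := hpn; exact ⟨d, h1⟩
    exfalso
    have hxne : (χ : G → ℂ) x ≠ 0 := by
      intro h0
      have h2 := (BlocksCharsC.mem_principalBlock_iff.mp hχ) x
      rw [Cfsg.centralChar, h0, mul_zero, zero_div, zero_sub, h.index] at h2
      have h3 := memLocalIdeal_mul_right h2 (memLocalRing_of_isIntegral (z := (-1 : ℂ)) isIntegral_one.neg)
      rw [neg_mul_neg, mul_one, memLocalIdeal_natCast_iff hM] at h3
      exact hrp ((Nat.prime_dvd_prime_iff_eq hr hp).mp (hr.dvd_of_dvd_pow h3))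
    have := hρ
    have hcop : Nat.Coprime (Module.finrank ℂ (Fin n → ℂ)) (centralizer ({x} : Set G)).index := by
      rw [Module.finrank_fin_fun, h.index]
      exact Nat.Coprime.pow_right a (hp.coprime_iff_not_dvd.mpr hpn).symm
    rcases Characters.char_zero_or_norm_of_coprime ρ x hcop with h2 | h2
    · exact hxne (by rw [← hρc]; exact h2)
    obtain ⟨ω, hω, -⟩ := Characters.exists_scalar_of_norm_char_eq ρ x h2
    refine hN fun m hm => ?_
    rw [PrincipalBlock.mem_charKer, ← hρc, Representation.character, Representation.character,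
      hker ρ ω hω m hm, map_one ρ]
  -- the sum of squares of degrees trivial on `N`
  have hsq : ∑ χ : IrrCharacter G, (if N ≤ PrincipalBlock.charKer χ then (χ : G → ℂ) 1 * (χ : G → ℂ) 1 else 0)
      = (N.index : ℂ) := by
    have hconj : ∀ χ : IrrCharacter G, conj ((χ : G → ℂ) 1) = (χ : G → ℂ) 1 := fun χ => by
      obtain ⟨n, -, hn⟩ := Characters.exists_degree_pos χ.2
      rw [hn]; simp
    have hN0 : (Nat.card N : ℂ) ≠ 0 := Nat.cast_ne_zero.mpr Nat.card_pos.ne'
    apply mul_left_cancel₀ hN0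
    have e1 : ∑ g : G, (if g ∈ N then ∑ χ : IrrCharacter G, (χ : G → ℂ) g * conj ((χ : G → ℂ) 1) else 0)
        = (Nat.card G : ℂ) := by
      rw [Finset.sum_eq_single (1 : G)]
      · rw [if_pos (one_mem N), Characters.sum_irr_mul_conj]
        congr 1
        exact Nat.card_congr ⟨fun y => y.1, fun y => ⟨y, by simp⟩, fun y => rfl, fun y => rfl⟩
      · intro g _ hg
        split_ifs
        · exact Characters.sum_irr_mul_conj_of_not_isConj fun hc => hg (isConj_one_left.mp hc)
        · rfl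
      · simp
    rw [← Nat.cast_mul, card_mul_index, ← e1, Finset.mul_sum]
    simp only [← Finset.sum_filter (fun g => g ∈ N)]
    rw [Finset.sum_comm]
    refine Finset.sum_congr rfl fun χ _ => ?_
    rw [← Finset.sum_mul, hconj, Finset.sum_filter]
    split_ifs with hk
    · rw [← Finset.sum_filter, Finset.sum_congr rfl fun g hg => PrincipalBlock.mem_charKer.mp (hk (Finset.mem_filter.mp hg).2),
        Finset.sum_const, nsmul_eq_mul, ← Fintype.card_subtype, ← Nat.card_eq_fintype_card, mul_assoc]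
    · rw [PrincipalBlock.sum_normal_eq_zero N χ hk, zero_mul, mul_zero]
  -- weak block orthogonality at `s`
  have hsum := BlocksCharsC.sum_degree_mul_eq_zero hM
    (isBlockUnion_of_isPBlock (BlocksCharsC.isPBlock_principalBlock (M := M) (G := G))) (g := s) (hso ▸ dvd_rfl)
  have hsplit : ∀ χ : IrrCharacter G, ∃ c : ℂ, IsIntegral ℤ c ∧
      (if χ ∈ B then (χ : G → ℂ) 1 * (χ : G → ℂ) s else 0) =
        (if N ≤ PrincipalBlock.charKer χ then (χ : G → ℂ) 1 * (χ : G → ℂ) 1 else 0) + (p : ℂ) * c := by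
    intro χ
    by_cases hk : N ≤ PrincipalBlock.charKer χ
    · exact ⟨0, isIntegral_zero, by rw [if_pos hk, if_pos (hAB χ hk), PrincipalBlock.mem_charKer.mp (hk hsN), mul_zero, add_zero]⟩
    by_cases hχ : χ ∈ B
    · obtain ⟨d, hd⟩ := hrest χ hχ hk
      refine ⟨(d : ℂ) * (χ : G → ℂ) s, (isIntegral_algebraMap (x := (d : ℤ))).mul
        (Characters.character_isIntegral (Characters.isCharacter_of_isIrr χ.2) s), ?_⟩
      rw [if_pos hχ, if_neg hk, hd]; push_cast; ring
    · exact ⟨0, isIntegral_zero, by rw [if_neg hχ, if_neg hk, mul_zero, add_zero]⟩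
  choose c hc hc' using hsplit
  rw [Finset.sum_congr rfl fun χ _ => hc' χ, Finset.sum_add_distrib, hsq, ← Finset.mul_sum] at hsum
  have hint : IsIntegral ℤ (algebraMap ℚ ℂ ((N.index : ℚ) / p)) := by
    have hp0 : (p : ℂ) ≠ 0 := Nat.cast_ne_zero.mpr hp.ne_zero
    have e : algebraMap ℚ ℂ ((N.index : ℚ) / p) = -∑ χ : IrrCharacter G, c χ := by
      rw [map_div₀, map_natCast, map_natCast, div_eq_iff hp0]
      linear_combination hsum
    rw [e]
    exact (IsIntegral.sum _ fun χ _ => hc χ).neg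
  rw [isIntegral_algebraMap_iff (algebraMap ℚ ℂ).injective] at hint
  obtain ⟨z, hz⟩ := IsIntegrallyClosed.isIntegral_iff.mp hint
  have hp0 : (p : ℚ) ≠ 0 := Nat.cast_ne_zero.mpr hp.ne_zero
  rw [eq_div_iff hp0] at hz
  have hz' : z * (p : ℤ) = (N.index : ℤ) := by simp only [eq_intCast] at hz; exact_mod_cast hz
  have hdz : (p : ℤ) ∣ (N.index : ℤ) := Dvd.intro_left z hz'
  exact hrp ((Nat.prime_dvd_prime_iff_eq hp hr).mp ((Int.natCast_dvd_natCast.mp hdz).trans hidx)).symm

end CfsgLib.PrimePowerClass
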