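import Mathlib
import Cfsg.Agent.PrimePowerClass.Blocks
import Cfsg.Agent.Solvable.Fitting
import Cfsg.Agent.PLocal.Cores

/-!
Kazarin: a class of `p`-power size generates a subgroup abelian modulo `O_p`.
-/

namespace CfsgLib.PrimePowerClass

open Subgroup Cfsg

universe u

variable {G : Type u} [Group G]

theorem isNilpotent_of_central {F : Subgroup G} [F.Normal] (hF : F ≤ center G) (K : Subgroup G)
    (hK : Group.IsNilpotent (K.map (QuotientGroup.mk' F))) : Group.IsNilpotent K := by
  have := hK
  refine Subgroup.isNilpotent_of_ker_le_center ((QuotientGroup.mk' F).subgroupMap K) ?_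
  intro k hk
  rw [MonoidHom.mem_ker] at hk
  have hkF : (k : G) ∈ F := (QuotientGroup.eq_one_iff _).mp (congrArg Subtype.val hk)
  exact mem_center_iff.mpr fun l => Subtype.ext (mem_center_iff.mp (hF hkF) l)

theorem le_fitting_of_central_ext [Finite G] (hF : fittingSubgroup G ≤ center G) [(fittingSubgroup G).Normal]
    (K : Subgroup G) [K.Normal]
    (hK : Group.IsNilpotent (K.map (QuotientGroup.mk' (fittingSubgroup G)))) : K ≤ fittingSubgroup G :=
  Solvable.le_fittingSubgroup (isNilpotent_of_central hF K hK)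

theorem index_dvd_quotient (N : Subgroup G) [N.Normal] [Finite G] (x : G) :
    (centralizer ({QuotientGroup.mk' N x} : Set (G ⧸ N))).index ∣ (centralizer ({x} : Set G)).index := by
  refine (index_dvd_of_le ?_).trans (index_map_dvd _ (QuotientGroup.mk'_surjective N))
  rintro _ ⟨c, hc, rfl⟩
  rw [mem_centralizer_singleton_iff, ← map_mul, ← map_mul, mem_centralizer_singleton_iff.mp hc]

theorem index_dvd_subgroup (H : Subgroup G) (x : H) :
    (centralizer ({x} : Set H)).index = (centralizer ({(x : G)} : Set G)).relIndex H := by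
  rw [relIndex]
  congr 1
  ext c
  rw [mem_subgroupOf, mem_centralizer_singleton_iff, mem_centralizer_singleton_iff, ← Subtype.coe_inj]
  rfl

variable {p : ℕ} [hp : Fact p.Prime]

theorem pPow_of_dvd {n a : ℕ} (h : n ∣ p ^ a) : ∃ b, n = p ^ b := by
  obtain ⟨b, -, hb⟩ := (Nat.dvd_prime_pow hp.out).mp h
  exact ⟨b, hb⟩

theorem fitting_le_centralizer [Finite G] {x : G} (hx : ∃ a, (centralizer ({x} : Set G)).index = p ^ a)
    (hcore : pCore p G = ⊥) : fittingSubgroup G ≤ centralizer ({x} : Set G) := by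
  obtain ⟨a, ha⟩ := hx
  rw [Solvable.fittingSubgroup_eq_iSup, iSup_le_iff]
  rintro ⟨q, hq⟩
  have : Fact q.Prime := ⟨hq⟩
  by_cases hqp : q = p
  · subst hqp; rw [hcore]; exact bot_le
  set C := centralizer ({x} : Set G) with hC
  obtain ⟨U⟩ : Nonempty (Sylow q C) := inferInstance
  have hidx : ¬ q ∣ ((U : Subgroup C).map C.subtype).index := by
    rw [Subgroup.index_map_subtype]
    intro hd
    rcases hq.dvd_mul.mp hd with h | h
    · exact U.not_dvd_index h
    · rw [ha] at h
      exact hqp ((Nat.prime_dvd_prime_iff_eq hq hp.out).mp (hq.dvd_of_dvd_pow h))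
  exact (Solvable.pCore_le_sylow ((U.2.map C.subtype).toSylow hidx)).trans (map_subtype_le _)

/-- With trivial `p`-core, an element with class of `p`-power size lies in the Fitting subgroup. -/
theorem mem_fitting_aux : ∀ (n : ℕ) (G : Type u) [Group G] [Finite G], Nat.card G ≤ n → ∀ x : G,
    (∃ a, (centralizer ({x} : Set G)).index = p ^ a) → pCore p G = ⊥ → x ∈ fittingSubgroup G := by
  intro n
  induction n with
  | zero => intro G _ _ hG; exact absurd hG (not_le.mpr Nat.card_pos)
  | succ n ih =>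
  intro G _ _ hG x hx hcore
  obtain ⟨a, ha⟩ := hx
  set F := fittingSubgroup G with hF
  have hFn : F.Normal := Solvable.fittingSubgroup_normal
  have hFC := fitting_le_centralizer ⟨a, ha⟩ hcore
  set C := centralizer (F : Set G) with hC
  have hxC : x ∈ C := by
    rw [hC, mem_centralizer_iff]
    exact fun f hf => mem_centralizer_singleton_iff.mp (hFC hf)
  by_cases hCtop : C = ⊤
  swap
  · have hlt : Nat.card C < Nat.card G :=
      lt_of_le_of_ne (card_le_card_group _) fun e => hCtop ((card_eq_iff_eq_top C).mp e)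
    have hCn : C.Normal := Subgroup.normal_centralizer
    have h1 := ih C (by omega) ⟨x, hxC⟩ (by
      rw [index_dvd_subgroup]
      obtain ⟨b, hb⟩ := pPow_of_dvd (p := p) (a := a) (ha ▸ relIndex_dvd_index (centralizer ({x} : Set G)) C)
      exact ⟨b, hb⟩) (by
      rw [eq_bot_iff]
      intro c hc
      have h2 : (c : G) ∈ (pCore p C).map C.subtype := ⟨c, hc, rfl⟩
      rw [PLocal.pCore_map_subtype_eq, hcore, inf_bot_eq, mem_bot] at h2
      exact mem_bot.mpr (Subtype.ext h2))
    have := Solvable.fittingSubgroup_normal (G := C)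
    have := Solvable.fittingSubgroup_characteristic (G := C)
    have hn : ((fittingSubgroup C).map C.subtype).Normal := PLocal.normal_map_subtype C _
    have hnil : Group.IsNilpotent ((fittingSubgroup C).map C.subtype) := by
      have := Solvable.fittingSubgroup_isNilpotent (G := C)
      exact Group.nilpotent_of_surjective _ (MonoidHom.subgroupMap_surjective C.subtype _)
    exact Solvable.le_fittingSubgroup hnil ⟨⟨x, hxC⟩, h1, rfl⟩
  have hFZ : F ≤ center G := by
    intro f hf
    rw [mem_center_iff]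
    intro g
    have hg : g ∈ C := hCtop ▸ mem_top g
    exact (mem_centralizer_iff.mp hg f hf).symm
  by_cases hFb : F = ⊥
  swap
  · have hlt : Nat.card (G ⧸ F) < Nat.card G := by
      have h1 := card_eq_card_quotient_mul_card_subgroup F
      have h2 : 1 < Nat.card F := by
        refine lt_of_le_of_ne Nat.card_pos fun e => hFb (Subgroup.card_eq_one.mp e.symm)
      have h3 : 0 < Nat.card (G ⧸ F) := Nat.card_pos
      nlinarith
    set π := QuotientGroup.mk' F with hπ
    have hsur := QuotientGroup.mk'_surjective F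
    have hcoreQ : pCore p (G ⧸ F) = ⊥ := by
      have hn : (pCore p (G ⧸ F)).Normal := Solvable.pCore_normal p
      have hKn : ((pCore p (G ⧸ F)).comap π).Normal := hn.comap π
      have h1 : (pCore p (G ⧸ F)).comap π ≤ F := by
        refine le_fitting_of_central_ext hFZ _ ?_
        rw [map_comap_eq_self_of_surjective hsur]
        exact (Solvable.isPGroup_pCore (G := G ⧸ F) p).isNilpotent
      rw [eq_bot_iff]
      intro q hq
      obtain ⟨g, rfl⟩ := hsur q
      exact mem_bot.mpr ((QuotientGroup.eq_one_iff g).mpr (h1 hq))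
    have h1 := ih (G ⧸ F) (by omega) (π x) (pPow_of_dvd (ha ▸ index_dvd_quotient F x)) hcoreQ
    have hKn : ((fittingSubgroup (G ⧸ F)).comap π).Normal := (Solvable.fittingSubgroup_normal).comap π
    refine le_fitting_of_central_ext hFZ ((fittingSubgroup (G ⧸ F)).comap π) ?_ h1
    rw [map_comap_eq_self_of_surjective hsur]
    exact Solvable.fittingSubgroup_isNilpotent
  -- trivial Fitting subgroup
  rw [hFb, mem_bot]
  by_contra hx1
  obtain ⟨r, hr, hrd⟩ := Nat.exists_prime_and_dvd (n := orderOf x) fun h => hx1 (orderOf_eq_one_iff.mp h)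
  set y := x ^ (orderOf x / r) with hy
  have hyo : orderOf y = r := orderOf_pow_orderOf_div (orderOf_pos x).ne' hrd
  have hy1 : y ≠ 1 := fun e => hr.ne_one (by rw [← hyo, e, orderOf_one])
  obtain ⟨b, hb⟩ : ∃ b, (centralizer ({y} : Set G)).index = p ^ b := by
    refine pPow_of_dvd (a := a) ?_
    rw [← ha]
    refine index_dvd_of_le fun c hc => ?_
    rw [mem_centralizer_singleton_iff] at hc ⊢
    exact ((show Commute c x from hc).pow_right _).eq
  -- a minimal normal subgroup moved by `y`
  obtain ⟨N, hN, hNbot, hNmin, hNy⟩ : ∃ N : Subgroup G, N.Normal ∧ N ≠ ⊥ ∧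
      (∀ K : Subgroup G, K.Normal → K ≤ N → K = ⊥ ∨ K = N) ∧ ∃ m ∈ N, m * y ≠ y * m := by
    by_contra hall
    push Not at hall
    let K : Subgroup G := normalClosure {y}
    have hKb : K ≠ ⊥ := fun e => hy1 (mem_bot.mp (e ▸ subset_normalClosure (Set.mem_singleton y)))
    obtain ⟨N, hN⟩ := (Set.toFinite {N : Subgroup G | N.Normal ∧ N ≠ ⊥ ∧ N ≤ K}).exists_minimal
      ⟨K, normalClosure_normal, hKb, le_rfl⟩
    obtain ⟨⟨hNn, hNb, hNK⟩, hNmin⟩ := hN
    have hmin : ∀ J : Subgroup G, J.Normal → J ≤ N → J = ⊥ ∨ J = N := fun J hJ hle =>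
      or_iff_not_imp_left.mpr fun hne => le_antisymm hle (hNmin ⟨hJ, hne, hle.trans hNK⟩ hle)
    have hyN := hall N hNn hNb hmin
    have hKC : K ≤ centralizer (N : Set G) := by
      have : (centralizer (N : Set G)).Normal := normal_centralizer
      refine normalClosure_le_normal ?_
      rintro _ rfl
      rw [SetLike.mem_coe, mem_centralizer_iff]
      exact fun m hm => hyN m hm
    have hNF : N ≤ F := by
      refine Solvable.le_fittingSubgroup ?_
      let _ : CommGroup N := { (inferInstance : Group N) with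
        mul_comm := fun u v => Subtype.ext (mem_centralizer_iff.mp (hKC (hNK v.2)) u u.2) }
      infer_instance
    exact hNb (le_bot_iff.mp (hFb ▸ hNF))
  have := hN
  have hnoP : ∀ J : Subgroup G, J ≤ N → N ≤ normalizer (J : Set G) → IsPGroup p J → J = ⊥ := by
    intro J hJN hnorm hJ
    have hn : (J.subgroupOf N).Normal := (normal_subgroupOf_iff_le_normalizer hJN).mpr hnorm
    have h1 : J.subgroupOf N ≤ pCore p N := Solvable.le_pCore (hJ.of_equiv (subgroupOfEquivOfLe hJN).symm)
    rw [eq_bot_iff]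
    intro j hj
    have h2 : j ∈ (pCore p N).map N.subtype := ⟨⟨j, hJN hj⟩, h1 hj, rfl⟩
    rw [PLocal.pCore_map_subtype_eq, hcore, inf_bot_eq] at h2
    exact h2
  set H := N ⊔ zpowers y with hH
  by_cases hHtop : H = ⊤
  · exact Setup.contradiction (N := N) (x := y) (p := p) (a := b) ⟨hyo.symm ▸ hr, hHtop, hNmin, hnoP, hb, hNy⟩
  have hlt : Nat.card H < Nat.card G :=
    lt_of_le_of_ne (card_le_card_group _) fun e => hHtop ((card_eq_iff_eq_top H).mp e)
  set yH : H := ⟨y, (le_sup_right : zpowers y ≤ H) (mem_zpowers y)⟩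
  have hidx : ∃ c, (centralizer ({yH} : Set H)).index = p ^ c := by
    rw [index_dvd_subgroup]
    set D := centralizer ({y} : Set G) ⊓ H
    have hDH : D ⊔ N = H := by
      refine le_antisymm (sup_le inf_le_right le_sup_left) (sup_le le_sup_right (zpowers_le.mpr ?_))
      exact (le_sup_left : D ≤ D ⊔ N) (mem_inf.mpr ⟨mem_centralizer_singleton_iff.mpr rfl, yH.2⟩)
    have e : (centralizer ({y} : Set G)).relIndex H = (centralizer ({y} : Set G)).relIndex N := by
      rw [← inf_relIndex_right, show (centralizer ({(yH : G)} : Set G) ⊓ H).relIndex H = D.relIndex (D ⊔ N) by rw [hDH],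
        relIndex_sup_eq, ← inf_relIndex_right D N, ← inf_relIndex_right (centralizer ({y} : Set G)) N]
      congr 1
      rw [inf_assoc, inf_eq_right.mpr (le_sup_left : N ≤ H)]
    rw [show ((yH : H) : G) = y from rfl, e]
    exact pPow_of_dvd (hb ▸ relIndex_dvd_index _ N)
  set Q := pCore p H with hQ
  have hQn : Q.Normal := Solvable.pCore_normal p
  set π := QuotientGroup.mk' Q
  have hcard : Nat.card (H ⧸ Q) ≤ n := by
    have := Nat.card_le_card_of_surjective π (QuotientGroup.mk'_surjective Q)
    omega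
  obtain ⟨c, hc⟩ := hidx
  have h1 := ih (H ⧸ Q) hcard (π yH) (pPow_of_dvd (hc ▸ index_dvd_quotient Q yH))
    (PLocal.pCore_quotient_pCore_eq_bot p H)
  -- `N` meets the preimage of the Fitting subgroup trivially
  set L := (fittingSubgroup (H ⧸ Q)).comap π with hL
  have hLn : L.Normal := (Solvable.fittingSubgroup_normal).comap π
  set NH := N.subgroupOf H with hNH
  have hNHn : NH.Normal := hN.subgroupOf H
  have hNQ : NH ⊓ Q = ⊥ := by
    rw [eq_bot_iff]
    intro q hq
    obtain ⟨hq1, hq2⟩ := mem_inf.mp hq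
    have hJ : ((NH ⊓ Q).map H.subtype) = ⊥ := by
      refine hnoP _ ?_ ?_ ((Solvable.isPGroup_pCore (G := H) p).to_le inf_le_right |>.map _)
      · rintro _ ⟨w, hw, rfl⟩; exact (mem_inf.mp hw).1
      · have h2 : (⊤ : Subgroup H).map H.subtype ≤ normalizer (((NH ⊓ Q).map H.subtype : Subgroup G) : Set G) := by
          refine le_trans ?_ (Subgroup.le_normalizer_map H.subtype)
          rw [normalizer_eq_top]
        rw [← MonoidHom.range_eq_map, range_subtype] at h2
        exact le_sup_left.trans h2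
    exact mem_bot.mpr (Subtype.ext (mem_bot.mp (hJ ▸ ⟨q, hq, rfl⟩ : (q : G) ∈ (⊥ : Subgroup G))))
  have hNL : NH ⊓ L = ⊥ := by
    have hinj : Set.InjOn π (NH ⊓ L : Subgroup H) := by
      intro u hu v hv e
      have h3 : u⁻¹ * v ∈ NH ⊓ Q := mem_inf.mpr ⟨mul_mem (inv_mem (mem_inf.mp hu).1) (mem_inf.mp hv).1,
        QuotientGroup.eq.mp e⟩
      rw [hNQ, mem_bot, inv_mul_eq_one] at h3
      exact h3
    have := Solvable.fittingSubgroup_isNilpotent (G := H ⧸ Q)
    let f : (NH ⊓ L : Subgroup H) →* fittingSubgroup (H ⧸ Q) :=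
      (π.comp (NH ⊓ L).subtype).codRestrict _ fun u => (mem_inf.mp u.2).2
    have hnil : Group.IsNilpotent (NH ⊓ L : Subgroup H) := Subgroup.isNilpotent_of_ker_le_center f (by
      rw [(MonoidHom.ker_eq_bot_iff f).mpr fun u v e => Subtype.ext (hinj u.2 v.2 (congrArg Subtype.val e))]
      exact bot_le)
    -- it gives a nilpotent normal subgroup of `N`
    have hK : ((NH ⊓ L).map H.subtype) ≤ N := by rintro _ ⟨w, hw, rfl⟩; exact (mem_inf.mp hw).1
    set K := ((NH ⊓ L).map H.subtype).subgroupOf N with hKdef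
    have hKn : K.Normal := by
      rw [hKdef, normal_subgroupOf_iff_le_normalizer hK]
      have h2 : (⊤ : Subgroup H).map H.subtype ≤ normalizer (((NH ⊓ L).map H.subtype : Subgroup G) : Set G) := by
        refine le_trans ?_ (Subgroup.le_normalizer_map H.subtype)
        rw [normalizer_eq_top]
      rw [← MonoidHom.range_eq_map, range_subtype] at h2
      exact le_sup_left.trans h2
    have hKnil : Group.IsNilpotent K := by
      have : Group.IsNilpotent ((NH ⊓ L).map H.subtype) :=
        Group.nilpotent_of_surjective _ (MonoidHom.subgroupMap_surjective H.subtype _)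
      exact Group.nilpotent_of_mulEquiv (subgroupOfEquivOfLe hK).symm
    have hKF : K ≤ fittingSubgroup N := Solvable.le_fittingSubgroup hKnil
    have := Solvable.fittingSubgroup_characteristic (G := N)
    have hn2 : ((fittingSubgroup N).map N.subtype).Normal := PLocal.normal_map_subtype N _
    have hnil2 : Group.IsNilpotent ((fittingSubgroup N).map N.subtype) := by
      have := Solvable.fittingSubgroup_isNilpotent (G := N)
      exact Group.nilpotent_of_surjective _ (MonoidHom.subgroupMap_surjective N.subtype _)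
    have h4 : (fittingSubgroup N).map N.subtype ≤ ⊥ := hFb ▸ Solvable.le_fittingSubgroup hnil2
    rw [eq_bot_iff]
    intro w hw
    have h5 : (w : G) ∈ (fittingSubgroup N).map N.subtype :=
      ⟨⟨w, hK ⟨w, hw, rfl⟩⟩, hKF ⟨w, hw, rfl⟩, rfl⟩
    exact mem_bot.mpr (Subtype.ext (mem_bot.mp (h4 h5)))
  obtain ⟨m, hm, hne⟩ := hNy
  apply hne
  set mH : H := ⟨m, (le_sup_left : N ≤ H) hm⟩
  have h6 : mH * yH * mH⁻¹ * yH⁻¹ ∈ NH ⊓ L := by
    refine mem_inf.mpr ⟨?_, mul_mem (hLn.conj_mem _ h1 mH) (inv_mem h1)⟩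
    rw [show mH * yH * mH⁻¹ * yH⁻¹ = mH * (yH * mH⁻¹ * yH⁻¹) by group]
    exact mul_mem hm (hNHn.conj_mem _ (inv_mem (show mH ∈ NH from hm)) yH)
  rw [hNL, mem_bot, mul_inv_eq_one, mul_inv_eq_iff_eq_mul] at h6
  exact congrArg Subtype.val h6

theorem commutator_mem_pCore [Finite G] {x : G} (hx : ∃ a, (centralizer ({x} : Set G)).index = p ^ a) (g h : G) :
    (g * x * g⁻¹) * (h * x * h⁻¹) * (g * x * g⁻¹)⁻¹ * (h * x * h⁻¹)⁻¹ ∈ pCore p G := by
  obtain ⟨a, ha⟩ := hx
  have hn : (pCore p G).Normal := Solvable.pCore_normal p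
  set π := QuotientGroup.mk' (pCore p G) with hπ
  have hb := pPow_of_dvd (p := p) (ha ▸ index_dvd_quotient (pCore p G) x)
  have hcore := PLocal.pCore_quotient_pCore_eq_bot p G
  have hF := mem_fitting_aux (p := p) _ (G ⧸ pCore p G) le_rfl (π x) hb hcore
  have hFC := fitting_le_centralizer hb hcore
  have hFn : (fittingSubgroup (G ⧸ pCore p G)).Normal := Solvable.fittingSubgroup_normal
  have h1 : π (h⁻¹ * g) * π x * (π (h⁻¹ * g))⁻¹ ∈ centralizer ({π x} : Set (G ⧸ pCore p G)) :=
    hFC (hFn.conj_mem _ hF _)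
  rw [mem_centralizer_singleton_iff] at h1
  have hcomm : Commute (π (g * x * g⁻¹)) (π (h * x * h⁻¹)) := by
    simp only [map_mul, map_inv] at h1 ⊢
    have := (show Commute _ _ from h1).map (MulAut.conj (π h)).toMonoidHom
    simpa [mul_assoc] using this
  rw [← QuotientGroup.eq_one_iff]
  show π _ = 1
  rw [map_mul π, map_mul π, map_mul π (g * x * g⁻¹), map_inv, map_inv, hcomm.eq]
  group

end CfsgLib.PrimePowerClass
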